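import Cfsg.Agent.H125.CY.Sum
import Cfsg.Agent.S0157
import Cfsg.Agent.Blocks.Local
import Cfsg.Agent.H968.Imc.RankThreeRat

/-!
# S4829: permutation characters of actions of the automorphism group (helper488)

* `witA_of_perm` : `MulAut S` acts on `X`, the inner automorphisms are transitive, `p ∣ |X|` and the permutation
  character of `S` is `1 + ∑ χ i` with different nontrivial `Cyc p` irreducible characters: `Ψ = fix - 1` is a witness;
* `rowA_of_perm`, `rowA_of_r3` (rank 3).
-/

set_option autoImplicit false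
set_option linter.unusedSectionVars false

open scoped ComplexConjugate

namespace Cfsg.Agent.H488.CY

open Cfsg Cfsg.Agent.H770.CY Cfsg.Agent.Characters

universe u v w

section basic

variable {G : Type u} [Group G] [Finite G] (X : Type v) [MulAction G X] [Finite X]

/-- the permutation character minus one is a character -/
theorem isCharacter_sub_one [Nonempty X] :
    IsCharacter G (fun g => (Nat.card (MulAction.fixedBy X g) : ℂ) - 1) := by
  classical
  have := Fintype.ofFinite G
  have : Finite (IrrCharacter G) := Core.finite_irr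
  have := Fintype.ofFinite (IrrCharacter G)
  have hS := S0157.isCharacter_fixedBy (G := G) X
  obtain ⟨m, hm⟩ := Core.exists_nat_comb hS
  let one : IrrCharacter G := ⟨fun _ => 1, Core.isIrr_one⟩
  have h1 : 1 ≤ m one := by
    rw [Nat.one_le_iff_ne_zero]
    intro h0
    have h2 : classInner (fun g : G => (Nat.card (MulAction.fixedBy X g) : ℂ)) (one : G → ℂ) = m one := by
      conv_lhs => rw [hm]
      exact Core.classInner_sum_nsmul_irr m one
    rw [h0, Nat.cast_zero, Core.classInner_def, mul_eq_zero] at h2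
    rcases h2 with h2 | h2
    · exact (inv_ne_zero (by exact_mod_cast (Nat.card_pos (α := G)).ne')) h2
    · have h3 : ∑ g : G, (Nat.card (MulAction.fixedBy X g) : ℂ) * conj ((one : G → ℂ) g) =
          ((∑ g : G, Nat.card (MulAction.fixedBy X g) : ℕ) : ℂ) := by
        push_cast
        refine Finset.sum_congr rfl fun g _ => ?_
        show _ * conj (1 : ℂ) = _
        rw [map_one, mul_one]
      rw [h3, Nat.cast_eq_zero, Finset.sum_eq_zero_iff] at h2
      have h4 := h2 1 (Finset.mem_univ _)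
      obtain ⟨x⟩ := ‹Nonempty X›
      have : Nonempty (MulAction.fixedBy X (1 : G)) := ⟨⟨x, one_smul G x⟩⟩
      exact absurd h4 Nat.card_pos.ne'
  refine (Core.isCharacter_iff (G := G)).2 ⟨fun ψ => m ψ - (if ψ = one then 1 else 0), ?_⟩
  have h2 : (fun g : G => (Nat.card (MulAction.fixedBy X g) : ℂ) - 1) =
      (fun g : G => (Nat.card (MulAction.fixedBy X g) : ℂ)) - (one : G → ℂ) := rfl
  rw [h2, sub_eq_iff_eq_add, hm]
  have h3 : (one : G → ℂ) = ∑ ψ : IrrCharacter G, (if ψ = one then 1 else 0) • (ψ : G → ℂ) := by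
    have h4 : ∀ ψ : IrrCharacter G, (if ψ = one then 1 else 0) • (ψ : G → ℂ) = if ψ = one then (ψ : G → ℂ) else 0 := by
      intro ψ
      split_ifs
      · exact one_smul _ _
      · exact zero_smul _ _
    rw [Finset.sum_congr rfl fun ψ _ => h4 ψ, Finset.sum_ite_eq' Finset.univ one, if_pos (Finset.mem_univ _)]
  conv_rhs => rw [h3]
  rw [← Finset.sum_add_distrib]
  refine Finset.sum_congr rfl fun ψ _ => ?_
  rw [← add_smul, Nat.sub_add_cancel]
  split_ifs with h3
  · rw [h3]; exact h1
  · exact Nat.zero_le _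

variable {X}

/-- the number of fixed points of a coprime power -/
theorem fixedBy_pow_eq {k : ℕ} (hk : Nat.Coprime k (Nat.card G)) (g : G) :
    MulAction.fixedBy X (g ^ k) = MulAction.fixedBy X g := by
  have key : ∀ (a : G) (n : ℕ), MulAction.fixedBy X a ⊆ MulAction.fixedBy X (a ^ n) := by
    intro a n x hx
    rw [MulAction.mem_fixedBy] at hx ⊢
    exact MulAction.mem_stabilizer_iff.1 (pow_mem (MulAction.mem_stabilizer_iff.2 hx) n)
  refine Set.Subset.antisymm ?_ (key g k)
  obtain ⟨m, hm⟩ := exists_pow_eq_self_of_coprime (n := k) (x := g)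
    (Nat.Coprime.coprime_dvd_right (orderOf_dvd_natCard g) hk)
  have h1 := key (g ^ k) m
  rwa [hm] at h1

theorem cyc_perm (p : ℕ) : Cyc p (fun g : G => (Nat.card (MulAction.fixedBy X g) : ℂ) - 1) := by
  intro k hk _ g
  show (Nat.card (MulAction.fixedBy X (g ^ k)) : ℂ) - 1 = _
  rw [fixedBy_pow_eq hk]

end basic

section wit

variable {p : ℕ} [hp : Fact p.Prime] {S : Type u} [Group S] [Fintype S] {X : Type v} [Finite X] [MulAction (MulAut S) X]

/-- a `p`-element-free count: an element centralizing a Sylow `p`-subgroup of `S` has a number of fixed points divisible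
by `p` if `p` divides the degree -/
theorem dvd_card_fixed (htr : ∀ x y : X, ∃ s : S, MulAut.conj s • x = y) (hd : p ∣ Nat.card X) (a : MulAut S)
    (Q : Sylow p S) (hQ : ∀ x ∈ Q, a x = x) : p ∣ Nat.card (MulAction.fixedBy X a) := by
  classical
  let _ : MulAction S X := MulAction.compHom X (MulAut.conj : S →* MulAut S)
  have hsm : ∀ (s : S) (x : X), s • x = MulAut.conj s • x := fun s x => rfl
  have hpre : MulAction.IsPretransitive S X := ⟨fun x y => by
    obtain ⟨s, hs⟩ := htr x y
    exact ⟨s, hs⟩⟩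
  have hcomm : ∀ s ∈ Q, MulAut.conj s * a = a * MulAut.conj s := by
    intro s hs
    ext y
    simp only [MulAut.mul_apply, MulAut.conj_apply, map_mul, map_inv, hQ s hs]
  -- the action of `Q` on the fixed points
  have hst : ∀ (s : (Q : Subgroup S)) (x : MulAction.fixedBy X a), (s : S) • (x : X) ∈ MulAction.fixedBy X a := by
    intro s x
    rw [MulAction.mem_fixedBy, hsm, ← mul_smul, ← hcomm s s.2, mul_smul]
    rw [show a • (x : X) = x from x.2]
  let _ : MulAction (Q : Subgroup S) (MulAction.fixedBy X a) :=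
    { smul := fun s x => ⟨(s : S) • (x : X), hst s x⟩
      one_smul := fun x => Subtype.ext (one_smul S (x : X))
      mul_smul := fun s t x => Subtype.ext (mul_smul (s : S) (t : S) (x : X)) }
  have hQp : IsPGroup p (Q : Subgroup S) := Q.2
  have h1 := hQp.card_modEq_card_fixedPoints (MulAction.fixedBy X a)
  have h2 : IsEmpty (MulAction.fixedPoints (Q : Subgroup S) (MulAction.fixedBy X a)) := by
    refine ⟨fun ⟨x, hx⟩ => ?_⟩
    have h3 : (Q : Subgroup S) ≤ MulAction.stabilizer S (x : X) := by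
      intro s hs
      rw [MulAction.mem_stabilizer_iff]
      exact congrArg Subtype.val (hx ⟨s, hs⟩)
    have h4 : (MulAction.stabilizer S (x : X)).index ∣ (Q : Subgroup S).index := Subgroup.index_dvd_of_le h3
    rw [MulAction.index_stabilizer_of_transitive] at h4
    exact Q.not_dvd_index (hd.trans h4)
  have h5 : Nat.card (MulAction.fixedPoints (Q : Subgroup S) (MulAction.fixedBy X a)) = 0 := Nat.card_of_isEmpty
  rw [h5] at h1
  exact (Nat.modEq_zero_iff_dvd).1 h1

/-- **the witness `fix - 1`** -/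
theorem witA_of_perm {M : Ideal AlgInt} (hM : IsPModular p M) {A : Subgroup (MulAut S)} (hA : ∀ s : S, MulAut.conj s ∈ A)
    (htr : ∀ x y : X, ∃ s : S, MulAut.conj s • x = y) (hne : Nonempty X) (hd : p ∣ Nat.card X) {J : Type w} [Fintype J]
    (θ : J → IrrCharacter S) (hinj : Function.Injective θ)
    (hθ : ∀ j, ((θ j : IrrCharacter S) : S → ℂ) ≠ (fun _ => 1) ∧ Cyc p ((θ j : IrrCharacter S) : S → ℂ))
    (hs : ∀ s : S, (Nat.card (MulAction.fixedBy X (MulAut.conj s)) : ℂ) = 1 + ∑ j, ((θ j : IrrCharacter S) : S → ℂ) s) :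
    WitA p M S A hA (fun a : A => (Nat.card (MulAction.fixedBy X a) : ℂ) - 1) := by
  have hfin : Finite (MulAut S) := inferInstance
  have hcard : ∀ a : A, Nat.card (MulAction.fixedBy X a) = Nat.card (MulAction.fixedBy X (a : MulAut S)) :=
    fun a => rfl
  have hone : Nat.card (MulAction.fixedBy X (1 : A)) = Nat.card X :=
    Nat.card_congr ⟨fun x => x.1, fun x => ⟨x, one_smul A x⟩, fun x => rfl, fun x => rfl⟩
  refine H125.CY.witA_of_sum (isCharacter_sub_one X) (cyc_perm p) ?_ θ hinj hθ ?_ ?_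
  · obtain ⟨x⟩ := hne
    have hpos : 0 < Nat.card X := Nat.card_pos_iff.2 ⟨⟨x⟩, inferInstance⟩
    refine ⟨Nat.card X - 1, ?_, fun h => ?_⟩
    · show (Nat.card (MulAction.fixedBy X (1 : A)) : ℂ) - 1 = _
      rw [hone, Nat.cast_sub hpos, Nat.cast_one]
    · have h2 : p ∣ 1 := by
        have := (Nat.dvd_sub hd h)
        rwa [Nat.sub_sub_self hpos] at this
      exact hp.out.one_lt.ne' (Nat.dvd_one.1 h2)
  · intro s
    show (Nat.card (MulAction.fixedBy X (⟨MulAut.conj s, hA s⟩ : A)) : ℂ) - 1 = _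
    rw [hcard, hs s]
    ring
  · rintro a - ⟨Q, hQ⟩
    show MemLocalIdeal M ((Nat.card (MulAction.fixedBy X a) : ℂ) - 1 - ((Nat.card (MulAction.fixedBy X (1 : A)) : ℂ) - 1))
    rw [hone, hcard]
    have h1 : ((Nat.card (MulAction.fixedBy X (a : MulAut S)) : ℂ) - 1 - ((Nat.card X : ℂ) - 1)) =
        (((Nat.card (MulAction.fixedBy X (a : MulAut S)) : ℤ) - (Nat.card X : ℤ) : ℤ) : ℂ) := by
      push_cast
      ring
    rw [h1, Blocks.Local.memLocalIdeal_intCast_iff hM]
    exact dvd_sub (Int.natCast_dvd_natCast.2 (dvd_card_fixed htr hd a Q hQ)) (Int.natCast_dvd_natCast.2 hd)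

/-- **the row from a multiplicity free permutation character** -/
theorem rowA_of_perm (htr : ∀ x y : X, ∃ s : S, MulAut.conj s • x = y) (hne : Nonempty X) (hd : p ∣ Nat.card X)
    {J : Type w} [Fintype J] (θ : J → IrrCharacter S) (hinj : Function.Injective θ)
    (hθ : ∀ j, ((θ j : IrrCharacter S) : S → ℂ) ≠ (fun _ => 1) ∧ Cyc p ((θ j : IrrCharacter S) : S → ℂ))
    (hs : ∀ s : S, (Nat.card (MulAction.fixedBy X (MulAut.conj s)) : ℂ) = 1 + ∑ j, ((θ j : IrrCharacter S) : S → ℂ) s) :
    RowA p S :=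
  fun _ hA _ hM => ⟨_, witA_of_perm hM hA.1 htr hne hd θ hinj hθ hs⟩

end wit

section r3

open Cfsg.Agent.H690.Spor.RankThree Cfsg.Agent.H968.Imc

theorem cyc_of_int {G : Type u} [Group G] [Finite G] (p : ℕ) (χ : IrrCharacter G) (h : ∀ g, ∃ z : ℤ, (χ : G → ℂ) g = z) :
    Cyc p (χ : G → ℂ) := by
  intro k hk _ g
  obtain ⟨z, hz⟩ := h g
  exact (GaloisBasic.exists_rat_iff (Core.isIrr_isCharacter χ.2) g).1 ⟨(z : ℚ), by rw [hz]; push_cast; rfl⟩ k hk

/-- **rank 3** -/
theorem rowA_of_r3 {p : ℕ} [hp : Fact p.Prime] {S : Type u} [Group S] [Fintype S] {X : Type v} [MulAction S X]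
    [MulAction (MulAut S) X] (hcomp : ∀ (s : S) (x : X), MulAut.conj s • x = s • x) {R : X → X → Prop} {k l : ℕ}
    (h : R3 S X R k l) (hd : p ∣ 1 + k + l)
    (hc : chkP k l (fun a b => decide (a ≠ 1) && decide (b ≠ 1) && decide (a ≠ b)) = true) : RowA p S := by
  obtain ⟨χ₁, χ₂, h1, h2, h3, h4⟩ := exists_pair h _ hc
  simp only [Bool.and_eq_true, decide_eq_true_eq] at h4
  obtain ⟨⟨h4, h5⟩, h6⟩ := h4
  have hcard := h.cardn
  have hfin : Finite X := Nat.finite_of_card_ne_zero (by omega)
  have htr := h.trans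
  have hne : Nonempty X := (Nat.card_pos_iff.1 (by omega)).1
  have hne1 : ∀ χ : IrrCharacter S, charDegree (χ : S → ℂ) ≠ 1 → (χ : S → ℂ) ≠ (fun _ => 1) := by
    intro χ hχ h0
    apply hχ
    have := Blocks.Basic.charDegree_of_eq (χ := (χ : S → ℂ)) (n := 1) (by rw [h0]; norm_num)
    exact this
  refine rowA_of_perm (X := X) (fun x y => ?_) hne (by rw [hcard]; exact hd) ![χ₁, χ₂] ?_ ?_ ?_
  · obtain ⟨s, hs⟩ := htr.exists_smul_eq x y
    exact ⟨s, by rw [hcomp, hs]⟩
  · intro i j hij
    fin_cases i <;> fin_cases j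
    · rfl
    · exact absurd (congrArg (fun χ : IrrCharacter S => charDegree (χ : S → ℂ)) hij) h6
    · exact absurd (congrArg (fun χ : IrrCharacter S => charDegree (χ : S → ℂ)) hij).symm h6
    · rfl
  · intro j
    fin_cases j
    · exact ⟨hne1 _ h4, cyc_of_int p _ h1⟩
    · exact ⟨hne1 _ h5, cyc_of_int p _ h2⟩
  · intro s
    have h7 : Nat.card (MulAction.fixedBy X (MulAut.conj s : MulAut S)) = Nat.card (MulAction.fixedBy X s) := by
      refine Nat.card_congr (Equiv.setCongr ?_)
      ext x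
      rw [MulAction.mem_fixedBy, MulAction.mem_fixedBy, hcomp]
    rw [h7, h3 s, Fin.sum_univ_two]
    simp only [Matrix.cons_val_zero, Matrix.cons_val_one]
    ring

end r3

end Cfsg.Agent.H488.CY
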