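import Cfsg.Agent.H488.CY.Perm
import Cfsg.Agent.H870.IMFiTwentyTwo
import Cfsg.Agent.R08.AutT

/-!
# S4829, the row `Fi22`, `p = 3, 5, 13` (helper488)

The rank 3 action of `Aut Fi22` on the 3510 transpositions.
-/

set_option autoImplicit false

namespace Cfsg.Agent.H488.CY.Fi22

open Cfsg Cfsg.Agent.H770.CY Cfsg.Agent.H870.IMFi22 Cfsg.Agent.H690.Spor.RankThree Cfsg.Agent.H968.Imc
open Cfsg.Agent.LThreeFi22 Cfsg.Agent.KFacts.FiTT

universe u

variable {S : Type u} [Group S]

theorem aut_TK (e : S ≃* Spor.Fi22) (b : MulAut S) {s : S} (h : s ∈ TK e) : b s ∈ TK e := by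
  rw [Inst.mem_TK] at h ⊢
  have h1 := R08.AutT.aut_mem ((e.symm.trans b).trans e) h
  have h2 : ((e.symm.trans b).trans e) (e s) = e (b s) := by
    show e (b (e.symm (e s))) = e (b s)
    rw [e.symm_apply_apply]
  rwa [h2] at h1

/-- the automorphism group acts on the transpositions -/
@[reducible] def autAct (e : S ≃* Spor.Fi22) : MulAction (MulAut S) (TK e) where
  smul b t := ⟨b t, aut_TK e b t.2⟩
  one_smul t := Subtype.ext rfl
  mul_smul b c t := Subtype.ext rfl

theorem chk : chkP 693 2816 (fun a b => decide (a ≠ 1) && decide (b ≠ 1) && decide (a ≠ b)) = true := by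
  decide +kernel

/-- **the row `Fi22`, `p ∣ 3510`** -/
theorem rowA {p : ℕ} [hp : Fact p.Prime] [Fintype S] (h : Spor.IsoFi22 S) (hd : p ∣ 3510) : RowA p S := by
  obtain ⟨e⟩ := h
  have C := Inst.ctx e
  have hR := @r3 S _ _ C
  let _ := act C
  let _ := autAct e
  refine rowA_of_r3 (X := TK e) (fun s x => ?_) hR (by norm_num; exact hd) chk
  exact Subtype.ext (by show MulAut.conj s (x : S) = s * x * s⁻¹; rw [MulAut.conj_apply])

end Cfsg.Agent.H488.CY.Fi22
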