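import Cfsg.Agent.H488.CY.Perm
import Cfsg.Agent.H30.GraphFi24A
import Cfsg.Agent.H819.CubeFi24

/-!
# S4829, the row `Fi24'`, `p = 3, 7, 29` (helper488)

The rank 3 action of `Fi24 = Aut Fi24'` on the 306936 transpositions.
-/

set_option autoImplicit false

namespace Cfsg.Agent.H488.CY

open Cfsg Cfsg.Agent.H770.CY Cfsg.Agent.H690.Spor.RankThree Cfsg.Agent.H968.Imc

universe u v w

/-- transport of the rank 3 criterion from a model -/
theorem rowA_of_r3_model {p : ℕ} [hp : Fact p.Prime] {S : Type u} [Group S] [Fintype S] {G : Type v} [Group G]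
    (e : S ≃* G) {X : Type w} [iG : MulAction G X] [iA : MulAction (MulAut G) X]
    (hcomp : ∀ (s : G) (x : X), MulAut.conj s • x = s • x) {R : X → X → Prop} {k l : ℕ}
    (h : R3 G X R k l) (hd : p ∣ 1 + k + l)
    (hc : chkP k l (fun a b => decide (a ≠ 1) && decide (b ≠ 1) && decide (a ≠ b)) = true) : RowA p S := by
  let _ : MulAction S X := MulAction.compHom X e.toMonoidHom
  let _ : MulAction (MulAut S) X := MulAction.compHom X (MulAut.congr e).toMonoidHom
  have hs : ∀ (s : S) (x : X), s • x = e s • x := fun _ _ => rfl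
  have ha : ∀ (a : MulAut S) (x : X), a • x = MulAut.congr e a • x := fun _ _ => rfl
  have htr := h.trans
  have hR : R3 S X R k l := by
    refine ⟨⟨fun x y => ?_⟩, h.symm, h.irr, fun g x y hxy => ?_, fun x y x' y' h1 h2 => ?_,
      fun x y x' y' h1 h2 h3 h4 => ?_, h.cardk, h.k0, h.l0, h.cardn⟩
    · obtain ⟨g, hg⟩ := htr.exists_smul_eq x y
      exact ⟨e.symm g, by rw [hs, e.apply_symm_apply, hg]⟩
    · rw [hs, hs]
      exact h.inv (e g) x y hxy
    · obtain ⟨g, hg1, hg2⟩ := h.one x y x' y' h1 h2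
      exact ⟨e.symm g, by rw [hs, e.apply_symm_apply, hg1], by rw [hs, e.apply_symm_apply, hg2]⟩
    · obtain ⟨g, hg1, hg2⟩ := h.two x y x' y' h1 h2 h3 h4
      exact ⟨e.symm g, by rw [hs, e.apply_symm_apply, hg1], by rw [hs, e.apply_symm_apply, hg2]⟩
  refine rowA_of_r3 (X := X) (fun s x => ?_) hR hd hc
  rw [hs, ha, ← hcomp]
  congr 1
  ext y
  show e (MulAut.conj s (e.symm y)) = MulAut.conj (e s) y
  rw [MulAut.conj_apply, MulAut.conj_apply, map_mul, map_mul, map_inv, e.apply_symm_apply]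

namespace FiTF

open Cfsg.Agent.R08 Cfsg.Agent.R08.FiTwentyFour
open Cfsg.Spor (Fi24)

local notation "L" => Cfsg.Agent.R08.FiTwentyFour.L

/-- `Fi24` is the automorphism group of `Fi24'` -/
noncomputable def autEquiv : Fi24 ≃* MulAut (commutator Fi24) :=
  MulEquiv.ofBijective MulAut.conjNormal ⟨H819.CubeFi24.conj_injective, H819.CubeFi24.conj_surjective⟩

/-- `Fi24` acts on the transpositions -/
@[reducible] def actF : MulAction Fi24 (L : Set Fi24) where
  smul g t := ⟨(g : Fi24) * t * (g : Fi24)⁻¹, FiTwentyFour.conj t.2 _⟩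
  one_smul t := Subtype.ext (by
    show (1 : Fi24) * t * (1 : Fi24)⁻¹ = t
    group)
  mul_smul g h t := Subtype.ext (by
    show (g * h) * (t : Fi24) * (g * h)⁻¹ = g * (h * t * h⁻¹) * g⁻¹
    group)

/-- the automorphism group acts on the transpositions -/
@[reducible] noncomputable def autAct : MulAction (MulAut (commutator Fi24)) (L : Set Fi24) :=
  @MulAction.compHom _ _ _ _ actF _ autEquiv.symm.toMonoidHom

theorem chk : chkP 31671 275264 (fun a b => decide (a ≠ 1) && decide (b ≠ 1) && decide (a ≠ b)) = true := by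
  decide +kernel

theorem symm_conj (s : commutator Fi24) : autEquiv.symm (MulAut.conj s) = (s : Fi24) := by
  rw [MulEquiv.symm_apply_eq]
  ext y
  show ((MulAut.conj s y : commutator Fi24) : Fi24) = ((MulAut.conjNormal (s : Fi24) y : commutator Fi24) : Fi24)
  rw [MulAut.conjNormal_apply, MulAut.conj_apply]
  rfl

/-- **the row `Fi24'`, `p ∣ 306936`** -/
theorem rowA {p : ℕ} [hp : Fact p.Prime] {S : Type u} [Group S] [Fintype S] (h : Spor.IsoFi24' S) (hd : p ∣ 306936) :
    RowA p S := by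
  obtain ⟨e⟩ := h
  refine @rowA_of_r3_model p hp S _ _ Spor.Fi24' _ e (L : Set Fi24) H30.GraphFi24.act autAct (fun s x => ?_) _ _ _
    H30.GraphFi24.r3 (by norm_num; exact hd) chk
  refine Subtype.ext ?_
  show autEquiv.symm (MulAut.conj s) * (x : Fi24) * (autEquiv.symm (MulAut.conj s))⁻¹ = (s : Fi24) * x * (s : Fi24)⁻¹
  rw [symm_conj]

end FiTF

end Cfsg.Agent.H488.CY
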