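import Cfsg.Agent.H629.CY.Defs
import Cfsg.Agent.H315.RatB.ON

/-!
# S4829, the row `O'N`, `p = 3, 7` (helper488)

The rational character of degree 32395; `C(P)` is a `p`-group.
-/

set_option autoImplicit false

namespace Cfsg.Agent.H488.CY.ON

open Cfsg Subgroup Cfsg.Agent.H493.RatB Cfsg.Agent.H629.CY Cfsg.Agent.H315.RatB.ON
open Cfsg.Spor (ON)
open Cfsg.Agent.KFacts.ON.Cent (finite_ON)
open Cfsg.Agent.H474.ONC

universe u v

/-- a rational character of odd degree prime to `p`; the centralizers of the elements of prime order `≠ p` are not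
divisible by `|S|_p` -/
theorem witOR_of_card {S : Type u} [Group S] [Finite S] {p : ℕ} [hp : Fact p.Prime] {a : ℕ}
    (ha : p ^ a ∣ Nat.card S)
    (hc : ∀ y : S, (orderOf y).Prime → orderOf y ≠ p → ¬ p ^ a ∣ Nat.card (centralizer ({y} : Set S)))
    (θ : IrrCharacter S) (hne : (θ : S → ℂ) ≠ fun _ => 1) (hd : ¬ p ∣ charDegree (θ : S → ℂ))
    (ho : Odd (charDegree (θ : S → ℂ))) (hr : RatV (θ : S → ℂ)) : WitOR p S := by
  obtain ⟨P⟩ : Nonempty (Sylow p S) := inferInstance
  exact fun _ hM => ⟨θ, H684.Principal.mem_of_not_dvd hM P.isPGroup' (isPGroup_centralizer ha hc P) θ hd, hne, hd, ho, hr⟩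

/-- transport -/
theorem witOR_congr {p : ℕ} {S : Type u} {T : Type v} [Group S] [Finite S] [Group T] (e : S ≃* T) (h : WitOR p T) :
    WitOR p S := by
  intro M hM
  obtain ⟨θ, h1, h2, h3, h4, h5⟩ := h M hM
  have hd : charDegree (fun x : S => (θ : T → ℂ) (e x)) = charDegree (θ : T → ℂ) := by
    rw [Blocks.Basic.charDegree_def, Blocks.Basic.charDegree_def, map_one]
  refine ⟨⟨_, Characters.Core.isIrr_comp (e : S →* T) e.surjective θ.2⟩, mem_principalBlock_comp e h1, fun h5 => h2 (by
    funext y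
    obtain ⟨x, rfl⟩ := e.surjective y
    exact congrFun h5 x), ?_, ?_, fun g => h5 (e g)⟩
  · show ¬ p ∣ charDegree (fun x : S => (θ : T → ℂ) (e x))
    rw [hd]; exact h3
  · show Odd (charDegree (fun x : S => (θ : T → ℂ) (e x)))
    rw [hd]; exact h4

theorem witOR_model {p : ℕ} (hp : p = 3 ∨ p = 7) : WitOR p ON := by
  have hfin := finite_ON
  obtain ⟨χ, h1, h2, h3⟩ := Cfsg.Agent.H710.R4.irr_ON
  have hdeg : charDegree χ = 32395 := Blocks.Basic.charDegree_of_eq h3
  have hne : χ ≠ fun _ => 1 := by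
    intro h
    rw [h] at h3
    norm_num at h3
  have hodd : Odd (charDegree χ) := by rw [hdeg]; decide
  have key : ∀ y : ON, (orderOf y).Prime → orderOf y = 2 ∨ orderOf y = 3 ∨ orderOf y = 5 ∨ orderOf y = 7 ∨
      orderOf y = 11 ∨ orderOf y = 19 ∨ orderOf y = 31 := fun y hy =>
    H680.PBON.cases hy (by rw [← card_ON]; exact orderOf_dvd_natCard y)
  rcases hp with rfl | rfl
  · have : Fact (Nat.Prime 3) := ⟨by norm_num⟩
    refine witOR_of_card (a := 4) (by rw [card_ON]; norm_num) (fun y hy h => ?_) ⟨χ, h1⟩ hne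
      (by show ¬ 3 ∣ charDegree χ; rw [hdeg]; norm_num) hodd h2
    rcases key y hy with h' | h' | h' | h' | h' | h' | h'
    · rw [card_cent_two h']; norm_num
    · exact absurd h' h
    · rw [card_cent_five h']; norm_num
    · exact fun h3 => not_three_seven h' ((by norm_num : 3 ∣ 3 ^ 4).trans h3)
    · rw [card_cent_eleven h']; norm_num
    · rw [H680.ONThirtyOne.card_cent_nineteen h']; norm_num
    · rw [H680.ONThirtyOne.card_cent h']; norm_num
  · have : Fact (Nat.Prime 7) := ⟨by norm_num⟩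
    refine witOR_of_card (a := 3) (by rw [card_ON]; norm_num) (fun y hy h => ?_) ⟨χ, h1⟩ hne
      (by show ¬ 7 ∣ charDegree χ; rw [hdeg]; norm_num) hodd h2
    rcases key y hy with h' | h' | h' | h' | h' | h' | h'
    · rw [card_cent_two h']; norm_num
    · rw [card_cent_three h']; norm_num
    · rw [card_cent_five h']; norm_num
    · exact absurd h' h
    · rw [card_cent_eleven h']; norm_num
    · rw [H680.ONThirtyOne.card_cent_nineteen h']; norm_num
    · rw [H680.ONThirtyOne.card_cent h']; norm_num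

/-- **`O'N`, `p = 3, 7`** -/
theorem witOR_on {S : Type u} [Group S] (h : Spor.IsoON S) {p : ℕ} (hp : p = 3 ∨ p = 7) : WitOR p S := by
  obtain ⟨e⟩ := h
  have hfin := finite_ON
  have : Finite S := Finite.of_equiv _ e.symm.toEquiv
  exact witOR_congr e (witOR_model hp)

end Cfsg.Agent.H488.CY.ON
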